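import Cfsg.Agent.Lib.RelDeg.LinAction

/-!
# Isaacs–Knutson: the relative degree graph has at most two components

For a prime `r` dividing `|N : N'|` the relative degrees prime to `r` lie in one component, the
component of the degrees over a fixed linear character of `r`-power order.
-/

set_option autoImplicit false
set_option linter.style.haveILetI false
set_option linter.unusedSectionVars false

namespace Cfsg.Agent.RelDeg

open Cfsg.Agent.Char

universe u

variable {G : Type u} [Group G] (N : Subgroup G) [N.Normal]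

/-- Two relative degrees in one component of the common-divisor graph. -/
def Linked (a b : ℕ) : Prop :=
  ∃ (ha : a ∈ Cfsg.relCharDegrees N) (hb : b ∈ Cfsg.relCharDegrees N),
    (Cfsg.commonDivisorGraph.induce (Cfsg.relCharDegrees N)).Reachable ⟨a, ha⟩ ⟨b, hb⟩

theorem Linked.trans {a b c : ℕ} (h : Linked N a b) (h' : Linked N b c) : Linked N a c := by
  obtain ⟨ha, hb, h1⟩ := h
  obtain ⟨_, hc, h2⟩ := h'
  exact ⟨ha, hc, h1.trans h2⟩

theorem Linked.symm {a b : ℕ} (h : Linked N a b) : Linked N b a := by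
  obtain ⟨ha, hb, h1⟩ := h
  exact ⟨hb, ha, h1.symm⟩

variable [Fintype G] [Fintype N]

theorem pos_of_mem {a : ℕ} (ha : a ∈ Cfsg.relCharDegrees N) : 0 < a := by
  obtain ⟨χ, -, rfl⟩ := ha
  exact charDegree_pos χ

theorem linked_of_dvd {a b c : ℕ} (ha : a ∈ Cfsg.relCharDegrees N)
    (hb : b ∈ Cfsg.relCharDegrees N) (hc : 1 < c) (hca : c ∣ a) (hcb : c ∣ b) : Linked N a b := by
  refine ⟨ha, hb, ?_⟩
  by_cases hab : a = b
  · subst hab; exact .refl _
  · refine SimpleGraph.Adj.reachable ?_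
    exact ⟨hab, lt_of_lt_of_le hc
      (Nat.le_of_dvd (Nat.gcd_pos_of_pos_left _ (pos_of_mem N ha)) (Nat.dvd_gcd hca hcb))⟩

/-- `x` has `r`-power order. -/
def IsRPow (r : ℕ) {A : Type*} [Monoid A] (x : A) : Prop := ∃ i : ℕ, x ^ r ^ i = 1

theorem eq_one_of_pow {r : ℕ} (hr : r.Prime) {A : Type*} [Monoid A] {x : A} (hx : IsRPow r x)
    {m : ℕ} (hm : ¬ r ∣ m) (h : x ^ m = 1) : x = 1 := by
  obtain ⟨i, hi⟩ := hx
  have h1 : x ^ Nat.gcd m (r ^ i) = 1 := pow_gcd_eq_one.2 ⟨h, hi⟩
  rwa [show Nat.gcd m (r ^ i) = 1 from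
    Nat.Coprime.pow_right i (hr.coprime_iff_not_dvd.2 hm).symm, pow_one] at h1

theorem dvd_orderOf {r : ℕ} (hr : r.Prime) {A : Type*} [Monoid A] {x : A} (hx : IsRPow r x)
    (h : x ≠ 1) : r ∣ orderOf x :=
  not_not.1 fun hn => h (eq_one_of_pow hr hx hn (pow_orderOf_eq_one x))

/-- The exponent projecting onto the `r`-part of `Lin N`. -/
theorem exists_rExp {r : ℕ} (hr : r.Prime) : ∃ k : ℕ, ∀ x : Lin N,
    IsRPow r (x ^ k) ∧ (IsRPow r x → x ^ k = x) ∧ (∀ m : ℕ, ¬ r ∣ m → x ^ m = 1 → x ^ k = 1) ∧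
      ∃ M : ℕ, ¬ r ∣ M ∧ (x ^ k = 1 → x ^ M = 1) := by
  set c := Nat.card (Lin N) with hc
  have hc0 : c ≠ 0 := Nat.card_pos.ne'
  set s := c.factorization r with hs
  set M := c / r ^ s with hM
  have hcop : Nat.Coprime (r ^ s) M := (Nat.coprime_ordCompl hr hc0).pow_left s
  have hmul : r ^ s * M = c := Nat.ordProj_mul_ordCompl_eq_self c r
  obtain ⟨k, hk1, hk0⟩ := Nat.chineseRemainder hcop 1 0
  obtain ⟨j, rfl⟩ : M ∣ k := Nat.modEq_zero_iff_dvd.1 hk0
  have hcard : ∀ x : Lin N, x ^ (r ^ s * M) = 1 := fun x => by rw [hmul]; exact pow_card_eq_one'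
  have hprw : ∀ x : Lin N, IsRPow r (x ^ (M * j)) := fun x => ⟨s, by
    rw [← pow_mul, show M * j * r ^ s = (r ^ s * M) * j by ring, pow_mul, hcard, one_pow]⟩
  have hMr : ¬ r ∣ M := Nat.not_dvd_ordCompl hr hc0
  have hfix : ∀ x : Lin N, IsRPow r x → x ^ (M * j) = x := fun x hx => by
    have hxs : x ^ r ^ s = 1 := by
      refine eq_one_of_pow hr ?_ hMr (by rw [← pow_mul, hcard])
      obtain ⟨i, hi⟩ := hx
      exact ⟨i, by rw [← pow_mul, mul_comm, pow_mul, hi, one_pow]⟩
    exact (pow_eq_pow_of_modEq hk1 hxs).trans (pow_one x)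
  exact ⟨M * j, fun x => ⟨hprw x, hfix x,
    fun m hm h => eq_one_of_pow hr (hprw x) hm (by rw [← pow_mul, mul_comm, pow_mul, h, one_pow]),
    M, hMr, fun h => by
      have h1 : IsRPow r (x ^ M) := ⟨s, by rw [← pow_mul, mul_comm M, hcard]⟩
      have h2 := hfix _ h1
      rwa [← pow_mul, mul_comm M (M * j), pow_mul, h, one_pow, eq_comm] at h2⟩⟩

theorem mem_of_pow (θ : IrrCharacter N) (χ : IrrCharacter G)
    (hθ : classInner (resFun N χ.1) θ.1 ≠ 0) {k : ℕ} {f : Lin N} (hf : detL N θ ^ k = f)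
    (hf1 : f ≠ 1) : degree χ ∈ Cfsg.relCharDegrees N :=
  mem_relCharDegrees N χ θ hθ fun e => hf1 (by rw [← hf, e, one_pow])

/-- A non-trivial linear character of `r`-power order whose orbit has length prime to `r`. -/
structure IsW (r : ℕ) (μ : Lin N) : Prop where
  rpow : IsRPow r μ
  ne_one : μ ≠ 1
  index : ¬ r ∣ (MulAction.stabilizer G μ).index

/-- Two such characters with coprime non-trivial orbit lengths give a degree meeting both. -/
theorem exists_common_pair {r : ℕ} (hr : r.Prime) {μ ν : Lin N} (hμ : IsW N r μ) (hν : IsW N r ν)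
    (hm : (MulAction.stabilizer G μ).index ≠ 1) (hn : (MulAction.stabilizer G ν).index ≠ 1)
    (hco : Nat.Coprime (MulAction.stabilizer G μ).index (MulAction.stabilizer G ν).index) :
    ∃ d ∈ Cfsg.relCharDegrees N,
      (∃ q : ℕ, q.Prime ∧ q ∣ (MulAction.stabilizer G μ).index ∧ q ∣ d) ∧
      (∃ p : ℕ, p.Prime ∧ p ∣ (MulAction.stabilizer G ν).index ∧ p ∣ d) := by
  classical
  haveI : Fintype (Lin N) := Fintype.ofFinite _
  set T1 := MulAction.stabilizer G μ with hT1
  set T2 := MulAction.stabilizer G ν with hT2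
  set m := T1.index
  set n := T2.index
  -- all pairs of conjugates are conjugate
  have hpair : ∀ g h : G, ∃ k : G, k • μ = g • μ ∧ k • ν = h • ν := by
    have h12 : (T1 ⊓ T2).index = m * n := by
      refine le_antisymm (Subgroup.index_inf_le (H := T1) (K := T2)) (Nat.le_of_dvd
        (Nat.pos_of_ne_zero Subgroup.index_ne_zero_of_finite) ?_)
      exact hco.mul_dvd_of_dvd_of_dvd (Subgroup.index_dvd_of_le inf_le_left)
        (Subgroup.index_dvd_of_le inf_le_right)
    have hst : MulAction.stabilizer G (μ, ν) = T1 ⊓ T2 := by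
      ext g
      simp [hT1, hT2, MulAction.mem_stabilizer_iff, Prod.ext_iff]
    intro g h
    have hsub : MulAction.orbit G (μ, ν) ⊆ MulAction.orbit G μ ×ˢ MulAction.orbit G ν := by
      rintro _ ⟨k, rfl⟩
      exact ⟨⟨k, rfl⟩, ⟨k, rfl⟩⟩
    have heq := Set.eq_of_subset_of_ncard_le hsub (by
      rw [Set.ncard_prod, ← MulAction.index_stabilizer, ← MulAction.index_stabilizer,
        ← MulAction.index_stabilizer, hst, h12]) (Set.toFinite _)
    obtain ⟨k, hk⟩ : (g • μ, h • ν) ∈ MulAction.orbit G (μ, ν) := by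
      rw [heq]; exact ⟨⟨g, rfl⟩, ⟨h, rfl⟩⟩
    exact ⟨k, congrArg Prod.fst hk, congrArg Prod.snd hk⟩
  set x := μ * ν with hx
  set s := (MulAction.stabilizer G x).index
  have key : ∀ {α β : Lin N}, IsW N r α → IsW N r β → (MulAction.stabilizer G β).index ≠ 1 →
      (∀ g h : G, ∃ k : G, k • α = g • α ∧ k • β = h • β) →
      Nat.Coprime (MulAction.stabilizer G (α * β)).index (MulAction.stabilizer G β).index →
      False := by
    intro α β hα hβ hβ1 hp hcs
    set A := MulAction.stabilizer G α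
    set B := MulAction.stabilizer G β
    set X := MulAction.stabilizer G (α * β)
    have hsubS : ∀ h : G, (fun a => a * (h • β)) '' MulAction.orbit G α ⊆
        MulAction.orbit G (α * β) := by
      rintro h _ ⟨_, ⟨g, rfl⟩, rfl⟩
      obtain ⟨k, hk1, hk2⟩ := hp g h
      exact ⟨k, by show k • (α * β) = _; rw [smul_mul', hk1, hk2]⟩
    have hle : X.index ≤ A.index := by
      have hAB : X ⊓ B ≤ A ⊓ B := by
        rintro g ⟨h1, h2⟩
        refine ⟨?_, h2⟩
        have e : g • (α * β) = α * β := h1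
        have e2 : g • β = β := h2
        rw [smul_mul', e2] at e
        exact mul_right_cancel e
      have hXA : A ⊓ B ≤ X := by
        rintro g ⟨h1, h2⟩
        show g • (α * β) = α * β
        rw [smul_mul', show g • α = α from h1, show g • β = β from h2]
      have h1 : X.index ∣ (A ⊓ B).index := Subgroup.index_dvd_of_le hXA
      have h2 : (A ⊓ B).index ≤ A.index * B.index := Subgroup.index_inf_le
      have h3 : X.index * B.index ∣ (A ⊓ B).index :=
        hcs.mul_dvd_of_dvd_of_dvd h1 (Subgroup.index_dvd_of_le inf_le_right)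
      exact Nat.le_of_mul_le_mul_right ((Nat.le_of_dvd
        (Nat.pos_of_ne_zero Subgroup.index_ne_zero_of_finite) h3).trans h2)
        (Nat.pos_of_ne_zero Subgroup.index_ne_zero_of_finite)
    have heqS : ∀ h : G, (fun a => a * (h • β)) '' MulAction.orbit G α =
        MulAction.orbit G (α * β) := fun h =>
      Set.eq_of_subset_of_ncard_le (hsubS h) (by
        rw [Set.ncard_image_of_injective _ (mul_left_injective _), ← MulAction.index_stabilizer,
          ← MulAction.index_stabilizer]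
        exact hle) (Set.toFinite _)
    set O := (MulAction.orbit G α).toFinset
    have hprod : ∀ h : G, (∏ a ∈ O, a) * (h • β) ^ O.card =
        ∏ z ∈ (MulAction.orbit G (α * β)).toFinset, z := fun h => by
      rw [show (MulAction.orbit G (α * β)).toFinset = O.image (fun a => a * (h • β)) from
        Finset.coe_injective (by rw [Finset.coe_image, Set.coe_toFinset, Set.coe_toFinset, heqS h]),
        Finset.prod_image (fun a _ b _ e => mul_right_cancel e), Finset.prod_mul_distrib,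
        Finset.prod_const]
    have hO : O.card = A.index := by
      rw [MulAction.index_stabilizer, Set.ncard_eq_toFinset_card' (MulAction.orbit G α)]
    refine hβ1 ?_
    rw [Subgroup.index_eq_one, eq_top_iff]
    intro h _
    have e := mul_left_cancel ((hprod h).trans (hprod 1).symm)
    rw [one_smul, hO] at e
    show h • β = β
    refine div_eq_one.1 (eq_one_of_pow hr ?_ hα.index (by rw [div_pow, e, div_self']))
    obtain ⟨i, hi⟩ := hβ.rpow
    exact ⟨i, by rw [div_pow, ← smul_pow' h β (r ^ i), hi, smul_one, div_one]⟩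
  have hsn : ¬ Nat.Coprime s n := fun h => key hμ hν hn hpair h
  have hsm : ¬ Nat.Coprime s m := fun h => key hν hμ hm
    (fun g h => (hpair h g).imp fun k hk => ⟨hk.2, hk.1⟩) (by rw [mul_comm ν μ]; exact h)
  obtain ⟨p, hp, hps, hpn⟩ := Nat.Prime.not_coprime_iff_dvd.1 hsn
  obtain ⟨q, hq, hqs, hqm⟩ := Nat.Prime.not_coprime_iff_dvd.1 hsm
  have hx1 : x ≠ 1 := fun e => by
    have : s = 1 := by
      rw [show s = (MulAction.stabilizer G x).index from rfl, Subgroup.index_eq_one, eq_top_iff]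
      intro g _
      show g • x = x
      rw [e, smul_one]
    exact hp.one_lt.ne' (Nat.dvd_one.1 (this ▸ hps))
  obtain ⟨ψ, hψ⟩ := exists_above N (irrOf N x)
  have hd : detL N (irrOf N x) ^ 1 = x := by rw [pow_one, detL_irrOf]
  have hsψ := stabilizer_index_dvd N ψ _ hψ hd
  exact ⟨_, mem_of_pow N _ ψ hψ hd hx1, ⟨q, hq, hqm, hqs.trans hsψ⟩, ⟨p, hp, hpn, hps.trans hsψ⟩⟩

/-- Degrees over two such characters with non-trivial orbits are linked. -/
theorem linked_pair {r : ℕ} (hr : r.Prime) {μ ν : Lin N} (hμ : IsW N r μ) (hν : IsW N r ν)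
    (hm : (MulAction.stabilizer G μ).index ≠ 1) (hn : (MulAction.stabilizer G ν).index ≠ 1)
    {a b : ℕ} (ha : a ∈ Cfsg.relCharDegrees N) (hb : b ∈ Cfsg.relCharDegrees N)
    (hma : (MulAction.stabilizer G μ).index ∣ a) (hnb : (MulAction.stabilizer G ν).index ∣ b) :
    Linked N a b := by
  by_cases hco : Nat.Coprime (MulAction.stabilizer G μ).index (MulAction.stabilizer G ν).index
  · obtain ⟨d, hd, ⟨q, hq, hqm, hqd⟩, ⟨p, hp, hpn, hpd⟩⟩ :=
      exists_common_pair N hr hμ hν hm hn hco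
    exact (linked_of_dvd N ha hd hq.one_lt (hqm.trans hma) hqd).trans N
      (linked_of_dvd N hd hb hp.one_lt hpd (hpn.trans hnb))
  · obtain ⟨p, hp, hpm, hpn⟩ := Nat.Prime.not_coprime_iff_dvd.1 hco
    exact linked_of_dvd N ha hb hp.one_lt (hpm.trans hma) (hpn.trans hnb)

/-- There is a character as in `IsW`, with non-trivial orbit when any has. -/
theorem exists_isW {r : ℕ} (hr : r.Prime) (h : r ∣ (commutator N).index) :
    ∃ μ : Lin N, IsW N r μ ∧ ((MulAction.stabilizer G μ).index = 1 →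
      ∀ ν : Lin N, IsW N r ν → (MulAction.stabilizer G ν).index = 1) := by
  classical
  haveI := Fact.mk hr
  suffices hex : ∃ μ : Lin N, IsW N r μ by
    by_cases h1 : ∃ μ : Lin N, IsW N r μ ∧ (MulAction.stabilizer G μ).index ≠ 1
    · obtain ⟨μ, hμ, hμ1⟩ := h1
      exact ⟨μ, hμ, fun e => absurd e hμ1⟩
    · push Not at h1
      obtain ⟨μ, hμ⟩ := hex
      exact ⟨μ, hμ, fun _ => h1⟩
  let L : Subgroup (Lin N) :=
    { carrier := {f | IsRPow r f}
      one_mem' := ⟨0, one_pow _⟩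
      mul_mem' := fun {a b} ⟨i, hi⟩ ⟨j, hj⟩ => ⟨i + j, by
        rw [mul_pow, pow_add, pow_mul, hi, one_pow, one_mul, mul_comm, pow_mul, hj, one_pow]⟩
      inv_mem' := fun {a} ⟨i, hi⟩ => ⟨i, by rw [inv_pow, hi, inv_one]⟩ }
  -- a linear character of order divisible by `r`
  obtain ⟨a, ha⟩ := exists_prime_orderOf_dvd_card' (G := Abelianization N) r
    (by rw [show Nat.card (Abelianization N) = (commutator N).index from
      (Subgroup.index_eq_card _).symm]; exact h)
  haveI : NeZero (Monoid.exponent (Abelianization N) : ℂ) :=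
    ⟨Nat.cast_ne_zero.2 Monoid.exponent_ne_zero_of_finite⟩
  obtain ⟨φ, hφ⟩ := CommGroup.exists_apply_ne_one_of_hasEnoughRootsOfUnity (Abelianization N) ℂ
    (a := a) fun e => by rw [e, orderOf_one] at ha; exact hr.one_lt.ne ha
  set f : Lin N := (φ.comp Abelianization.of : N →* ℂˣ) with hf
  have hrf : r ∣ orderOf f := by
    by_contra hn
    refine hφ (eq_one_of_pow hr ⟨1, by rw [pow_one, ← map_pow, ← ha, pow_orderOf_eq_one, map_one]⟩
      hn ?_)
    obtain ⟨n, rfl⟩ : ∃ n, Abelianization.of n = a := QuotientGroup.mk'_surjective _ a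
    have := congrArg (fun g : Lin N => g n) (pow_orderOf_eq_one f)
    simp only [Lin.pow_apply, Lin.one_apply] at this
    exact this
  obtain ⟨k, hk⟩ := exists_rExp N hr
  have hfk : f ^ k ≠ 1 := fun e => by
    obtain ⟨-, -, -, M, hM, hM1⟩ := hk f
    exact hM ((hrf.trans (orderOf_dvd_of_pow_eq_one (hM1 e))))
  have hLdvd : r ∣ Nat.card L := by
    refine (dvd_orderOf hr (hk f).1 hfk).trans ?_
    rw [← Subgroup.orderOf_mk (H := L) (f ^ k) (hk f).1]
    exact orderOf_dvd_natCard _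
  obtain ⟨R⟩ := (inferInstance : Nonempty (Sylow r G))
  letI : MulAction (R : Subgroup G) L :=
    { smul := fun g f => ⟨(g : G) • (f : Lin N), by
        obtain ⟨i, hi⟩ := f.2
        exact ⟨i, by rw [← smul_pow', hi, smul_one]⟩⟩
      one_smul := fun f => Subtype.ext (one_smul G (f : Lin N))
      mul_smul := fun g h f => Subtype.ext (mul_smul (g : G) (h : G) (f : Lin N)) }
  have hone : (1 : L) ∈ MulAction.fixedPoints (R : Subgroup G) L := fun g =>
    Subtype.ext (smul_one (g : G))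
  obtain ⟨μ, hμ, hne⟩ := R.isPGroup'.exists_fixed_point_of_prime_dvd_card_of_fixed_point L
    hLdvd hone
  refine ⟨μ, μ.2, fun e => hne (Subtype.ext e.symm), fun hd => ?_⟩
  have hle : (R : Subgroup G) ≤ MulAction.stabilizer G (μ : Lin N) := fun g hg =>
    congrArg Subtype.val (hμ ⟨g, hg⟩)
  exact R.not_dvd_index (hd.trans (Subgroup.index_dvd_of_le hle))

theorem isW_of_dvd {r : ℕ} {f : Lin N} (hf : IsRPow r f) (h1 : f ≠ 1) {d : ℕ}
    (hd : ¬ r ∣ d) (h : (MulAction.stabilizer G f).index ∣ d) : IsW N r f :=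
  ⟨hf, h1, fun e => hd (e.trans h)⟩

/-- The relative degrees prime to `r` lie in the component of those over `μ`. -/
theorem linked_of_not_dvd (hNG : N ≤ commutator G) {r : ℕ} (hr : r.Prime) {μ : Lin N}
    (hμ : IsW N r μ) (hμ0 : (MulAction.stabilizer G μ).index = 1 →
      ∀ ν : Lin N, IsW N r ν → (MulAction.stabilizer G ν).index = 1)
    {a b : ℕ} (ha : a ∈ Cfsg.relCharDegrees N) (hra : ¬ r ∣ a)
    (hb : b ∈ Cfsg.relCharDegrees N) (hkb : keyNum N μ ∣ b) : Linked N a b := by
  obtain ⟨χ, ⟨x, hxN, hx⟩, rfl⟩ := ha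
  rw [charDegree_eq_degree] at hra ⊢
  have hmemχ : degree χ ∈ Cfsg.relCharDegrees N := ⟨χ, ⟨x, hxN, hx⟩, charDegree_eq_degree χ⟩
  obtain ⟨θ, hθ⟩ := exists_constituent N χ
  obtain ⟨k, hk⟩ := exists_rExp N hr
  by_cases hl : detL N θ ^ k = 1
  · -- twist `θ` by `μ`
    set a := degree θ
    have hra' : ¬ r ∣ a := fun e => hra (e.trans (degree_dvd N χ θ hθ))
    set θ' := twist N θ μ with hθ'
    obtain ⟨ψ, hψ⟩ := exists_above N θ'
    have hdet : detL N θ' ^ k = μ ^ a := by
      rw [detL_twist, mul_pow, hl, mul_one, ← pow_mul, mul_comm, pow_mul, (hk μ).2.1 hμ.rpow]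
    obtain ⟨i, hi⟩ := hμ.rpow
    obtain ⟨j, hj⟩ : ∃ j, (μ ^ a) ^ j = μ := by
      have hco : Nat.Coprime a (orderOf μ) :=
        (Nat.Coprime.pow_right i (hr.coprime_iff_not_dvd.2 hra').symm).coprime_dvd_right
          (orderOf_dvd_of_pow_eq_one hi)
      exact exists_pow_eq_self_of_coprime hco
    have hdet' : detL N θ' ^ (k * j) = μ := by rw [pow_mul, hdet, hj]
    have hmem := mem_of_pow N θ' ψ hψ hdet' hμ.ne_one
    have h2 : Linked N (degree ψ) b := linked_of_dvd N hmem hb (one_lt_keyNum N hμ.ne_one)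
      (keyNum_dvd N hNG ψ θ' hψ hdet') hkb
    refine Linked.trans N ?_ h2
    by_cases ha1 : a = 1
    · obtain ⟨f, rfl⟩ := exists_irrOf_of_degree N ha1
      have hf1 : f ≠ 1 := fun e => by
        subst e
        refine hx ?_
        have hinv : ∀ g, conjFun N (irrOf N (1 : Lin N)).1 g = (irrOf N (1 : Lin N)).1 :=
          fun g => funext fun n => rfl
        have hres := resFun_eq_smul_of_invariant N χ _ hinv hθ
        have e1 := congrFun hres ⟨x, hxN⟩
        have e2 := congrFun hres 1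
        simp only [Pi.smul_apply, resFun_apply, irrOf, linIrr_apply, Lin.toC,
          Subgroup.coe_one] at e1 e2
        exact e1.trans e2.symm
      obtain ⟨-, -, -, M, hM, hM1⟩ := hk f
      rw [detL_irrOf] at hl
      obtain ⟨q, hq⟩ : ∃ q, (detL N θ') ^ q = f := by
        rw [hθ', detL_twist, detL_irrOf, degree_irrOf, pow_one]
        have hco : Nat.Coprime (r ^ i) (orderOf f) := by
          refine Nat.Coprime.pow_left i (hr.coprime_iff_not_dvd.2 fun e => hM ?_)
          exact e.trans (orderOf_dvd_of_pow_eq_one (hM1 hl))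
        obtain ⟨q, hq⟩ := exists_pow_eq_self_of_coprime hco
        exact ⟨r ^ i * q, by rw [pow_mul, mul_pow, hi, one_mul, hq]⟩
      exact linked_of_dvd N hmemχ hmem (one_lt_keyNum N hf1)
        (keyNum_dvd N hNG χ _ hθ (k := 1) (by rw [pow_one, detL_irrOf]))
        (keyNum_dvd N hNG ψ _ hψ hq)
    · exact linked_of_dvd N hmemχ hmem (c := a) (by have := degree_pos θ; omega)
        (degree_dvd N χ θ hθ) ((degree_twist N θ μ).symm.dvd.trans (degree_dvd N ψ θ' hψ))
  · set f := detL N θ ^ k with hf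
    have hidx := stabilizer_index_dvd N χ θ hθ hf.symm
    have hW : IsW N r f := isW_of_dvd N (hk _).1 hl hra hidx
    have hf1 : (MulAction.stabilizer G f).index ≠ 1 := fun e => by
      have h1 := keyNum_dvd N hNG χ θ hθ hf.symm
      rw [keyNum, if_pos e] at h1
      exact hra ((dvd_orderOf hr hW.rpow hl).trans h1)
    have hμ1 : (MulAction.stabilizer G μ).index ≠ 1 := fun e => hf1 (hμ0 e f hW)
    rw [keyNum, if_neg hμ1] at hkb
    exact linked_pair N hr hW hμ hf1 hμ1 hmemχ hb hidx hkb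

/-- Degrees prime to `r` are all linked. -/
theorem linked_both (hNG : N ≤ commutator G) {r : ℕ} (hr : r.Prime)
    (h : r ∣ (commutator N).index) {a b : ℕ} (ha : a ∈ Cfsg.relCharDegrees N)
    (hb : b ∈ Cfsg.relCharDegrees N) (hra : ¬ r ∣ a) (hrb : ¬ r ∣ b) : Linked N a b := by
  obtain ⟨μ, hμ, hμ0⟩ := exists_isW N hr h
  obtain ⟨ψ, hψ⟩ := exists_above N (irrOf N μ)
  have hd : detL N (irrOf N μ) ^ 1 = μ := by rw [pow_one, detL_irrOf]
  have hmem := mem_of_pow N _ ψ hψ hd hμ.ne_one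
  have hk := keyNum_dvd N hNG ψ _ hψ hd
  exact (linked_of_not_dvd N hNG hr hμ hμ0 ha hra hmem hk).trans N
    ((linked_of_not_dvd N hNG hr hμ hμ0 hb hrb hmem hk).symm N)

/-- Degrees in different components cannot have different primes of `|N : N'|`. -/
theorem linked_cross (hNG : N ≤ commutator G) {r s : ℕ} (hr : r.Prime) (hs : s.Prime)
    (hrN : r ∣ (commutator N).index) (hsN : s ∣ (commutator N).index) (hrs : r ≠ s)
    {a b : ℕ} (ha : a ∈ Cfsg.relCharDegrees N) (hb : b ∈ Cfsg.relCharDegrees N)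
    (hrb : ¬ r ∣ b) (hsa : ¬ s ∣ a) : Linked N a b := by
  obtain ⟨μ, hμ, hμ0⟩ := exists_isW N hr hrN
  obtain ⟨ν, hν, hν0⟩ := exists_isW N hs hsN
  obtain ⟨k, hk⟩ := exists_rExp N hr
  obtain ⟨l, hl⟩ := exists_rExp N hs
  obtain ⟨i, hi⟩ := hμ.rpow
  obtain ⟨j, hj⟩ := hν.rpow
  obtain ⟨ψ, hψ⟩ := exists_above N (irrOf N (μ * ν))
  have hdk : detL N (irrOf N (μ * ν)) ^ k = μ := by
    rw [detL_irrOf, mul_pow, (hk μ).2.1 hμ.rpow, (hk ν).2.2.1 _
      (fun e => hrs ((Nat.prime_dvd_prime_iff_eq hr hs).1 (hr.dvd_of_dvd_pow e))) hj, mul_one]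
  have hdl : detL N (irrOf N (μ * ν)) ^ l = ν := by
    rw [detL_irrOf, mul_pow, (hl ν).2.1 hν.rpow, (hl μ).2.2.1 _
      (fun e => hrs ((Nat.prime_dvd_prime_iff_eq hs hr).1 (hs.dvd_of_dvd_pow e)).symm) hi,
      one_mul]
  have hmem := mem_of_pow N _ ψ hψ hdk hμ.ne_one
  exact (linked_of_not_dvd N hNG hs hν hν0 ha hsa hmem (keyNum_dvd N hNG ψ _ hψ hdl)).trans N
    ((linked_of_not_dvd N hNG hr hμ hμ0 hb hrb hmem (keyNum_dvd N hNG ψ _ hψ hdk)).symm N)

theorem linked_dvd {r : ℕ} (hr : r.Prime) {a b : ℕ} (ha : a ∈ Cfsg.relCharDegrees N)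
    (hb : b ∈ Cfsg.relCharDegrees N) (hra : r ∣ a) (hrb : r ∣ b) : Linked N a b :=
  linked_of_dvd N ha hb hr.one_lt hra hrb

end Cfsg.Agent.RelDeg
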