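import Cfsg.Agent.Lib.Clifford.GallagherExtension
import Cfsg.Agent.Lib.Char.KernelSum
import Cfsg.Agent.Lib.CharInt.Eigen

/-!
# The determinant of a character restricted to a normal subgroup

`det χ` on `N` is the product of the determinants of the conjugates of a constituent, to the power
of the multiplicity.
-/

set_option autoImplicit false
set_option linter.style.haveILetI false
set_option linter.unusedSectionVars false

namespace Cfsg.Agent.RelDeg

open Module
open Cfsg.Agent.Char

universe u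

theorem card_filter_eq_sum_pow {τ : Type*} [Fintype τ] {m : ℕ} (hm : m ≠ 0) (f : τ → ℂ)
    (hf : ∀ i, f i ^ m = 1) {ζ : ℂ} (hζ : ζ ^ m = 1) :
    (m : ℂ) * ((Finset.univ.filter fun i => ζ = f i).card : ℂ) =
      ∑ k ∈ Finset.range m, ζ⁻¹ ^ k * ∑ i, f i ^ k := by
  classical
  have hζ0 : ζ ≠ 0 := by
    rintro rfl
    simp [zero_pow hm] at hζ
  simp only [Finset.mul_sum]
  rw [Finset.sum_comm, Finset.card_filter, Nat.cast_sum, Finset.mul_sum]
  refine Finset.sum_congr rfl fun i _ => ?_
  simp only [← mul_pow]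
  by_cases hi : ζ = f i
  · simp [← hi, inv_mul_cancel₀ hζ0]
  · have h1 : ζ⁻¹ * f i ≠ 1 := fun e => hi (by
      have := congrArg (ζ * ·) e
      simpa [← mul_assoc, mul_inv_cancel₀ hζ0] using this.symm)
    rw [geom_sum_eq h1, mul_pow, inv_pow, hζ, hf]
    simp [hi]

/-- Roots of unity with the same power sums have the same product. -/
theorem prod_eq_of_pow_sum_eq {ι κ : Type*} [Fintype ι] [Fintype κ] {m : ℕ} (hm : m ≠ 0)
    (μ : ι → ℂ) (ν : κ → ℂ) (hμ : ∀ i, μ i ^ m = 1) (hν : ∀ i, ν i ^ m = 1)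
    (h : ∀ k < m, ∑ i, μ i ^ k = ∑ i, ν i ^ k) : ∏ i, μ i = ∏ i, ν i := by
  classical
  have hms : Finset.univ.val.map μ = Finset.univ.val.map ν := by
    refine Multiset.ext.2 fun ζ => ?_
    rw [Multiset.count_map, Multiset.count_map]
    by_cases hζ : ζ ^ m = 1
    · have h1 := card_filter_eq_sum_pow hm μ hμ hζ
      rw [Finset.sum_congr rfl fun k hk => by rw [h k (Finset.mem_range.1 hk)],
        ← card_filter_eq_sum_pow hm ν hν hζ] at h1
      exact Nat.cast_injective (mul_left_cancel₀ (Nat.cast_ne_zero.2 hm) h1)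
    · rw [Multiset.filter_eq_nil.2 fun i _ e => hζ (by rw [e]; exact hμ i),
        Multiset.filter_eq_nil.2 fun i _ e => hζ (by rw [e]; exact hν i)]
      rfl
  exact congrArg Multiset.prod hms

variable {G : Type u} [Group G] [Fintype G] (N : Subgroup G) [N.Normal] [Fintype N]

/-- An irreducible character at the powers of an element through the eigenvalues. -/
theorem exists_eigen {H : Type u} [Group H] [Finite H] (χ : IrrCharacter H) (x : H) :
    ∃ (d : ℕ) (μ : Fin d → ℂ), (∀ i, μ i ^ orderOf x = 1) ∧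
      (∀ k : ℕ, χ.1 (x ^ k) = ∑ i, μ i ^ k) ∧ Clifford.detChar χ x = ∏ i, μ i := by
  obtain ⟨d, ρ, hρ, hχ⟩ := χ.2
  obtain ⟨b, μ, hμ, hb⟩ := CharInt.exists_eigenbasis_rho ρ x
  refine ⟨_, μ, hμ, fun k => ?_, ?_⟩
  · rw [← hχ, Representation.character, map_pow]
    exact CharInt.trace_of_eigenbasis b (CharInt.pow_apply_eigenvector b hb k)
  · rw [Clifford.detChar_eq χ ρ hχ]
    exact CharInt.det_of_eigenbasis b hb

theorem exists_mult (χ : IrrCharacter G) (θ : IrrCharacter N) :
    ∃ e : ℕ, classInner (resFun N χ.1) θ.1 = e :=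
  IsCharacter.exists_nat_classInner (IsCharacter.restrict (irr_isCharacter χ) N) (irr_isCharacter θ)

theorem degree_eq_mul (χ : IrrCharacter G) (θ : IrrCharacter N) {e : ℕ}
    (he : classInner (resFun N χ.1) θ.1 = e) (hθ : classInner (resFun N χ.1) θ.1 ≠ 0) :
    degree χ = e * ((orbitFinset N θ).card * degree θ) := by
  have h := apply_one_eq_mul_card_orbit N χ θ hθ
  rw [apply_one_eq_degree, apply_one_eq_degree, he] at h
  exact_mod_cast h

/-- The determinant of `χ` on `N`. -/
theorem detChar_restrict (χ : IrrCharacter G) (θ : IrrCharacter N) {e : ℕ}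
    (he : classInner (resFun N χ.1) θ.1 = e) (hθ : classInner (resFun N χ.1) θ.1 ≠ 0) (n : N) :
    Clifford.detChar χ (n : G) = ∏ η ∈ orbitFinset N θ, Clifford.detChar η n ^ e := by
  classical
  obtain ⟨d, μ, hμ, hsum, hdet⟩ := exists_eigen χ (n : G)
  choose f ν hν hνsum hνdet using fun η : IrrCharacter N => exists_eigen η n
  rw [hdet, ← Finset.prod_coe_sort (orbitFinset N θ)]
  let ν' : (Σ η : orbitFinset N θ, Fin e × Fin (f η.1)) → ℂ := fun p => ν p.1.1 p.2.2
  have hm : orderOf n ≠ 0 := (orderOf_pos n).ne'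
  rw [prod_eq_of_pow_sum_eq hm μ ν' (fun i => by
    rw [← Subgroup.orderOf_coe]; exact hμ i) (fun p => hν _ _) fun k _ => ?_]
  · rw [Fintype.prod_sigma]
    refine Finset.prod_congr rfl fun η _ => ?_
    rw [hνdet, Fintype.prod_prod_type]
    simp [ν']
  · rw [← hsum, ← Subgroup.coe_pow, ← resFun_apply N χ.1, resFun_eq_smul_orbitSum N χ θ hθ,
      Pi.smul_apply, he, smul_eq_mul, orbitSum, Finset.sum_apply, Finset.mul_sum, Fintype.sum_sigma,
      ← Finset.sum_coe_sort (orbitFinset N θ)]
    refine Finset.sum_congr rfl fun η _ => ?_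
    rw [hνsum, Fintype.sum_prod_type]
    simp [ν']

theorem detChar_conjChar (θ : IrrCharacter N) (g : G) (n : N) :
    Clifford.detChar (conjChar N θ g) n = Clifford.detChar θ (MulAut.conjNormal g n) :=
  Clifford.detChar_comp θ (MulAut.conjNormal g : MulAut N).toMonoidHom (conjChar N θ g)
    (fun _ => rfl) n

end Cfsg.Agent.RelDeg
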