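import Cfsg.Agent.Lib.RelDeg.Components
import Cfsg.Agent.Lib.Char.Clifford
import Cfsg.Agent.S0887
import Cfsg.Agent.S4776

/-!
# Isaacs–Knutson: the shape of a disconnected relative degree graph

`N` solvable inside `G'`. The component of the degrees divisible by the primes of `|N : N'|` is
complete, and two degrees of the other component are adjacent or have a common neighbour.

For a degree `a` prime to `|N : N'|` over `θ`, either some linear character of prime power order
has a non-trivial orbit of length dividing `a`, or `θ` is non-linear and every prime `q` of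
`|M : M'|` that is prime to `|N : N'|` divides `a`, where `M` is the smallest normal subgroup of
`G` in `N` whose index in `N` involves only primes of `|N : N'|`: otherwise twisting a constituent
on `M` by a character of `q`-power order joins `a` to a degree sharing a prime with `|N : N'|`.
-/

set_option autoImplicit false
set_option linter.style.haveILetI false
set_option linter.unusedSectionVars false

namespace Cfsg.Agent.RelDeg

open Cfsg.Agent.Char
open scoped commutatorElement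

universe u

variable {G : Type u} [Group G] (N : Subgroup G) [N.Normal]

theorem relIndex_commutator (H : Subgroup G) : ⁅H, H⁆.relIndex H = (commutator H).index := by
  rw [Subgroup.relIndex, ← Subgroup.map_subtype_commutator]
  congr 1
  exact Subgroup.comap_map_eq_self_of_injective H.subtype_injective _

/-- A value of order divisible by `q` shows that `q` divides `|N : N'|`. -/
theorem dvd_index_of_orderOf {A : Type u} [Group A] [Finite A] (g : A →* ℂˣ) (x : A) {q : ℕ}
    (h : q ∣ orderOf (g x)) : q ∣ (commutator A).index := by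
  refine h.trans (orderOf_dvd_of_pow_eq_one ?_)
  rw [← map_pow]
  exact MonoidHom.mem_ker.1 (Abelianization.commutator_subset_ker g
    ((commutator A).pow_index_mem x))

theorem relCharDegrees_mono {M N' : Subgroup G} (h : M ≤ N') :
    Cfsg.relCharDegrees M ⊆ Cfsg.relCharDegrees N' := by
  rintro _ ⟨χ, ⟨x, hx, hne⟩, rfl⟩
  exact ⟨χ, ⟨x, h hx, hne⟩, rfl⟩

variable [Fintype G] [Fintype N]

theorem exists_prime_part {f : Lin N} (hf : f ≠ 1) :
    ∃ s : ℕ, s.Prime ∧ s ∣ (commutator N).index ∧ s ∣ orderOf f := by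
  obtain ⟨s, hs, hsf⟩ := Nat.exists_prime_and_dvd (fun e => hf (orderOf_eq_one_iff.1 e))
  refine ⟨s, hs, hsf.trans (orderOf_dvd_of_pow_eq_one (Lin.ext fun n => ?_)), hsf⟩
  rw [Lin.pow_apply, Lin.one_apply, ← map_pow]
  exact MonoidHom.mem_ker.1 (Abelianization.commutator_subset_ker (f : N →* ℂˣ)
    ((commutator N).pow_index_mem n))

theorem relIndex_dvd_index (T : Subgroup G) : T.relIndex N ∣ T.index := by
  refine ⟨(T ⊔ N).index, ?_⟩
  have h1 := Subgroup.relIndex_mul_index (inf_le_right : T ⊓ N ≤ N)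
  have h2 := Subgroup.relIndex_mul_index (inf_le_left : T ⊓ N ≤ T)
  have h3 := Subgroup.relIndex_mul_index (le_sup_right : N ≤ T ⊔ N)
  rw [Subgroup.inf_relIndex_right] at h1
  rw [Subgroup.inf_relIndex_left] at h2
  rw [Subgroup.relIndex_sup_right] at h3
  refine Nat.eq_of_mul_eq_mul_left (Nat.pos_of_ne_zero
    (Subgroup.index_ne_zero_of_finite (H := N.subgroupOf T))) ?_
  show N.relIndex T * T.index = N.relIndex T * (T.relIndex N * (T ⊔ N).index)
  rw [h2, ← h1, ← h3]
  ring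

/-- An invariant linear character extends up to a power prime to the index. -/
theorem dvd_index_of_invariant {M : Subgroup G} [M.Normal] (hMN : M ≤ N) (lam : Lin M)
    (hfix : ∀ n ∈ N, n • lam = lam) {q : ℕ} (hq : q.Prime) (hrp : IsRPow q lam) (hne : lam ≠ 1)
    (hqM : ¬ q ∣ M.relIndex N) : q ∣ (commutator N).index := by
  classical
  obtain ⟨m, hm⟩ : ∃ m : M, lam m ≠ 1 := by
    by_contra! h
    exact hne (Lin.ext fun n => h n)
  set H := M.subgroupOf N with hH
  haveI : H.Normal := Subgroup.Normal.subgroupOf inferInstance N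
  let phi : H →* ℂˣ := (lam : M →* ℂˣ).comp (Subgroup.subgroupOfEquivOfLe hMN).toMonoidHom
  set x : N := ⟨m, hMN m.2⟩ with hx
  haveI : Fintype (Quotient (MulAction.orbitRel (Subgroup.zpowers x) (N ⧸ H))) := Fintype.ofFinite _
  haveI : Fintype (N ⧸ H) := Fintype.ofFinite _
  have hper : ∀ y : N ⧸ H, Function.minimalPeriod (x • ·) y = 1 := fun y => by
    rw [Function.minimalPeriod_eq_one_iff_isFixedPt]
    induction y using QuotientGroup.induction_on with
    | H z =>
      show (QuotientGroup.mk (x * z) : N ⧸ H) = QuotientGroup.mk z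
      rw [QuotientGroup.mk_mul, (QuotientGroup.eq_one_iff x).2 m.2, one_mul]
  have htr : MonoidHom.transfer phi x = (lam m) ^ H.index := by
    rw [MonoidHom.transfer_eq_prod_quotient_orbitRel_zpowers_quot,
      Finset.prod_congr rfl (g := fun _ => lam m) fun y _ => ?_, Finset.prod_const,
      Finset.card_univ, Subgroup.index_eq_sum_minimalPeriod H x]
    · simp [hper]
    · have hn := congrArg (fun f : Lin M => f m) (hfix _ (y.out.out).2)
      simp only [lin_smul_apply] at hn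
      refine Eq.trans (congrArg lam (Subtype.ext ?_)) hn
      show ((y.out.out⁻¹ * x ^ Function.minimalPeriod (x • ·) y.out * y.out.out : N) : G) = _
      rw [hper, pow_one]
      simp [hx]
  refine dvd_index_of_orderOf (MonoidHom.transfer phi) x ?_
  rw [htr]
  obtain ⟨i, hi⟩ := hrp
  have hr : IsRPow q (lam m) := ⟨i, by
    have := congrArg (fun f : Lin M => f m) hi
    simpa only [Lin.pow_apply, Lin.one_apply] using this⟩
  refine dvd_orderOf hq ?_ fun e => hm (eq_one_of_pow hq hr hqM e)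
  obtain ⟨j, hj⟩ := hr
  exact ⟨j, by rw [← pow_mul, mul_comm, pow_mul, hj, one_pow]⟩

omit [Fintype N] in
/-- The smallest normal subgroup with index a product of primes of `|N : N'|`. -/
theorem exists_minimal [Group.IsSolvable N] : ∃ M : Subgroup G, M.Normal ∧ M ≤ N ∧
    (∀ p : ℕ, p.Prime → p ∣ M.relIndex N → p ∣ (commutator N).index) ∧
    (M ≠ ⊥ → ∃ q : ℕ, q.Prime ∧ q ∣ (commutator M).index ∧ ¬ q ∣ (commutator N).index) := by
  classical
  have hex : ∃ k, ∃ M : Subgroup G, M.Normal ∧ M ≤ N ∧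
      (∀ p : ℕ, p.Prime → p ∣ M.relIndex N → p ∣ (commutator N).index) ∧ Nat.card M = k :=
    ⟨_, N, inferInstance, le_rfl, fun p hp h => by
      rw [Subgroup.relIndex_self] at h; exact absurd (Nat.dvd_one.1 h) hp.ne_one, rfl⟩
  obtain ⟨M, hM, hMN, hMp, hMc⟩ := Nat.find_spec hex
  refine ⟨M, hM, hMN, hMp, fun hne => ?_⟩
  by_contra! hcon
  haveI := (Subgroup.nontrivial_iff_ne_bot M).2 hne
  haveI : Group.IsSolvable M := Group.isSolvable_of_isSolvable_injective
    (f := Subgroup.inclusion hMN) (Subgroup.inclusion_injective _)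
  have hlt : ⁅M, M⁆ < M := lt_of_le_of_ne (Subgroup.commutator_le_self M) fun e => by
    have h1 : (commutator M).index = 1 := by rw [← relIndex_commutator, e, Subgroup.relIndex_self]
    exact (Group.IsSolvable.commutator_lt_top_of_nontrivial (G := M)).ne (Subgroup.index_eq_one.1 h1)
  have hcard : Nat.card (⁅M, M⁆ : Subgroup G) < Nat.card M := by
    refine lt_of_le_of_ne (Subgroup.card_le_of_le hlt.le) fun e => hlt.ne ?_
    exact Subgroup.eq_of_le_of_card_ge hlt.le e.ge
  refine Nat.find_min hex (m := Nat.card (⁅M, M⁆ : Subgroup G)) (hMc ▸ hcard)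
    ⟨⁅M, M⁆, inferInstance, hlt.le.trans hMN, fun p hp h => ?_, rfl⟩
  rw [← Subgroup.relIndex_mul_relIndex _ _ _ hlt.le hMN, relIndex_commutator] at h
  rcases hp.dvd_mul.1 h with h | h
  · exact hcon p hp h
  · exact hMp p hp h

/-- A linear character of prime power order with non-trivial orbit of length dividing `a`. -/
def Good (a : ℕ) : Prop :=
  ∃ (s : ℕ) (f : Lin N), s.Prime ∧ s ∣ (commutator N).index ∧ IsW N s f ∧
    (MulAction.stabilizer G f).index ≠ 1 ∧ (MulAction.stabilizer G f).index ∣ a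

/-- Degrees meeting `a` are prime to `|N : N'|`. -/
def Away (a : ℕ) : Prop :=
  ∀ d ∈ Cfsg.relCharDegrees N, (∃ q : ℕ, q.Prime ∧ q ∣ a ∧ q ∣ d) →
    Nat.Coprime d (commutator N).index

theorem Away.coprime {a : ℕ} (ha : a ∈ Cfsg.relCharDegrees N) (h : Away N a) :
    Nat.Coprime a (commutator N).index := by
  by_cases h1 : a = 1
  · rw [h1]; exact Nat.coprime_one_left _
  obtain ⟨q, hq, hqa⟩ := Nat.exists_prime_and_dvd h1
  exact h a ha ⟨q, hq, hqa, hqa⟩

/-- The alternatives for a degree away from `|N : N'|`. -/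
theorem good_or (hNG : N ≤ commutator G) {χ : IrrCharacter G} {θ : IrrCharacter N}
    (hx : ∃ x ∈ N, χ.1 x ≠ χ.1 1) (hθ : classInner (resFun N χ.1) θ.1 ≠ 0)
    (hcop : Nat.Coprime (degree χ) (commutator N).index) :
    Good N (degree χ) ∨ (degree θ ≠ 1 ∧ ∀ s : ℕ, s.Prime → s ∣ (commutator N).index →
      ∀ k : ℕ, IsRPow s (detL N θ ^ k) → detL N θ ^ k = 1) := by
  classical
  have hgood : ∀ s : ℕ, s.Prime → s ∣ (commutator N).index →
      ∀ k : ℕ, IsRPow s (detL N θ ^ k) → detL N θ ^ k ≠ 1 → Good N (degree χ) := by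
    intro s hs hsm k hk hne
    have hsχ : ¬ s ∣ degree χ := fun e => hs.one_lt.ne' (Nat.eq_one_of_dvd_coprimes hcop e hsm)
    have hidx := stabilizer_index_dvd N χ θ hθ (rfl : detL N θ ^ k = _)
    refine ⟨s, _, hs, hsm, isW_of_dvd N hk hne hsχ hidx, fun e => hsχ ?_, hidx⟩
    have h1 := keyNum_dvd N hNG χ θ hθ (rfl : detL N θ ^ k = _)
    rw [keyNum, if_pos e] at h1
    exact (dvd_orderOf hs hk hne).trans h1
  by_cases hd : degree θ = 1
  · left
    obtain ⟨f, rfl⟩ := exists_irrOf_of_degree N hd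
    obtain ⟨x, hxN, hx⟩ := hx
    have hf1 : f ≠ 1 := fun e => by
      subst e
      refine hx ?_
      have hinv : ∀ g, conjFun N (irrOf N (1 : Lin N)).1 g = (irrOf N (1 : Lin N)).1 :=
        fun g => funext fun n => rfl
      have hres := resFun_eq_smul_of_invariant N χ _ hinv hθ
      have e1 := congrFun hres ⟨x, hxN⟩
      have e2 := congrFun hres 1
      simp only [Pi.smul_apply, resFun_apply, irrOf, linIrr_apply, Lin.toC,
        Subgroup.coe_one] at e1 e2
      exact e1.trans e2.symm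
    obtain ⟨s, hs, hsm, hsf⟩ := exists_prime_part N hf1
    obtain ⟨k, hk⟩ := exists_rExp N hs
    obtain ⟨h1, -, -, M, hM, hM1⟩ := hk f
    refine hgood s hs hsm k (by rwa [detL_irrOf]) ?_
    rw [detL_irrOf]
    exact fun e => hM (hsf.trans (orderOf_dvd_of_pow_eq_one (hM1 e)))
  · by_cases h : ∃ s : ℕ, s.Prime ∧ s ∣ (commutator N).index ∧
        ∃ k : ℕ, IsRPow s (detL N θ ^ k) ∧ detL N θ ^ k ≠ 1
    · obtain ⟨s, hs, hsm, k, h1, h2⟩ := h
      exact .inl (hgood s hs hsm k h1 h2)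
    · push Not at h
      exact .inr ⟨hd, h⟩

/-- In the non-linear case every prime of `|M : M'|` prime to `|N : N'|` divides the degree. -/
theorem dvd_of_nonlinear {χ : IrrCharacter G} {θ : IrrCharacter N}
    (hθ : classInner (resFun N χ.1) θ.1 ≠ 0) (hd : degree θ ≠ 1)
    (hχ : degree χ ∈ Cfsg.relCharDegrees N) (haway : Away N (degree χ))
    {M : Subgroup G} [hMn : M.Normal] (hMN : M ≤ N)
    (hMp : ∀ p : ℕ, p.Prime → p ∣ M.relIndex N → p ∣ (commutator N).index) :
    M ≠ ⊥ ∧ ∀ q : ℕ, q.Prime → q ∣ (commutator M).index → ¬ q ∣ (commutator N).index →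
      q ∣ degree χ := by
  classical
  haveI := Fintype.ofFinite M
  set H := M.subgroupOf N with hH
  haveI : H.Normal := Subgroup.Normal.subgroupOf inferInstance N
  haveI := Fintype.ofFinite H
  obtain ⟨η, hη⟩ := exists_constituent H θ
  obtain ⟨hdvd, hdiv⟩ := Cfsg.Agent.S0887.result H θ.1 θ.2 η.1 η.2 hη (degree θ) (degree η)
    (apply_one_eq_degree θ) (apply_one_eq_degree η)
  have hθχ : degree θ ∣ degree χ := degree_dvd N χ θ hθ
  -- a non-linear constituent
  have hη1 : degree η ≠ 1 := fun e => by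
    rw [e, Nat.div_one] at hdiv
    obtain ⟨p, hp, hpd⟩ := Nat.exists_prime_and_dvd hd
    exact hp.one_lt.ne' (Nat.eq_one_of_dvd_coprimes (haway.coprime N hχ) (hpd.trans hθχ)
      (hMp p hp (hpd.trans hdiv)))
  refine ⟨fun e => hη1 ?_, fun q hq hqM hqN => ?_⟩
  · subst e
    haveI : Subsingleton H := ⟨fun a b => Subtype.ext (Subtype.ext
      ((Subgroup.mem_bot.1 a.2).trans (Subgroup.mem_bot.1 b.2).symm))⟩
    have h1 := degree_dvd_natCard η
    rw [Nat.card_eq_one_iff_unique.2 ⟨inferInstance, ⟨1⟩⟩] at h1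
    exact Nat.dvd_one.1 h1
  set φ := irrCongr (Subgroup.subgroupOfEquivOfLe hMN) η with hφ
  have hφd : degree φ = degree η := by
    have h1 := apply_one_eq_degree φ
    have h2 : φ.1 1 = η.1 1 := by simp [hφ, irrCongr]
    rw [h2, apply_one_eq_degree] at h1
    exact_mod_cast h1.symm
  set c := degree φ with hc
  have hcχ : c ∣ degree χ := hφd ▸ hdvd.trans hθχ
  by_contra hqχ
  have hqc : ¬ q ∣ c := fun e => hqχ (e.trans hcχ)
  obtain ⟨lam, hlam, -⟩ := exists_isW M hq hqM
  have hqMN : ¬ q ∣ M.relIndex N := fun e => hqN (hMp q hq e)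
  -- some prime of the index moves `lam`
  set T := MulAction.stabilizer G lam with hT
  have hR : T.relIndex N ≠ 1 := fun e => hqN (dvd_index_of_invariant N hMN lam
    (fun n hn => Subgroup.relIndex_eq_one.1 e hn) hq hlam.rpow hlam.ne_one hqMN)
  obtain ⟨p, hp, hpR⟩ := Nat.exists_prime_and_dvd hR
  have hMT : M ≤ T := fun m hm => Lin.ext fun n => by
    rw [lin_smul_apply]
    have e : MulAut.conjNormal (m : G)⁻¹ n = (⟨m, hm⟩ : M)⁻¹ * n * ⟨m, hm⟩ :=
      Subtype.ext (by simp)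
    rw [e, map_mul, map_mul, map_inv]
    rw [mul_right_comm, inv_mul_cancel, one_mul]
  have hpN : p ∣ (commutator N).index := hMp p hp (hpR.trans (Subgroup.relIndex_dvd_of_le_left N hMT))
  -- twist
  obtain ⟨k, hk⟩ := exists_rExp M hq
  set x := lam * (detL M φ ^ k)⁻¹ with hxdef
  have hx : IsRPow q x := by
    obtain ⟨i, hi⟩ := hlam.rpow
    obtain ⟨j, hj⟩ := (hk (detL M φ)).1
    exact ⟨i + j, by
      rw [hxdef, mul_pow, inv_pow, pow_add, pow_mul, hi, one_pow, one_mul, mul_comm (q ^ i),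
        pow_mul, hj, one_pow, inv_one]⟩
  obtain ⟨i, hi⟩ := hx
  have hco : Nat.Coprime c (orderOf x) :=
    (Nat.Coprime.pow_right i (hq.coprime_iff_not_dvd.2 hqc).symm).coprime_dvd_right
      (orderOf_dvd_of_pow_eq_one hi)
  obtain ⟨j, hj⟩ := exists_pow_eq_self_of_coprime hco
  obtain ⟨ψ, hψ⟩ := exists_above M (twist M φ (x ^ j))
  have hdet : detL M (twist M φ (x ^ j)) ^ k = lam := by
    rw [detL_twist, ← hc, ← pow_mul x j c, mul_comm j c, pow_mul x c j, hj, mul_pow,
      (hk x).2.1 ⟨i, hi⟩, hxdef, inv_mul_cancel_right]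
  have hmem : degree ψ ∈ Cfsg.relCharDegrees N :=
    relCharDegrees_mono hMN (mem_of_pow M _ ψ hψ hdet hlam.ne_one)
  obtain ⟨t, ht, htc⟩ := Nat.exists_prime_and_dvd (n := c) (hφd ▸ hη1)
  refine hp.one_lt.ne' (Nat.eq_one_of_dvd_coprimes (haway _ hmem ⟨t, ht, htc.trans hcχ, ?_⟩) ?_ hpN)
  · exact htc.trans ((degree_twist M φ _).symm.dvd.trans (degree_dvd M ψ _ hψ))
  · exact (hpR.trans (relIndex_dvd_index N T)).trans (stabilizer_index_dvd M ψ _ hψ hdet)

/-- Equal, sharing a prime, or both sharing primes with a third degree. -/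
def Near (a b : ℕ) : Prop :=
  (∃ q : ℕ, q.Prime ∧ q ∣ a ∧ q ∣ b) ∨ ∃ d ∈ Cfsg.relCharDegrees N,
    (∃ q : ℕ, q.Prime ∧ q ∣ a ∧ q ∣ d) ∧ ∃ q : ℕ, q.Prime ∧ q ∣ b ∧ q ∣ d

theorem Near.symm {a b : ℕ} (h : Near N a b) : Near N b a := by
  rcases h with ⟨q, hq, h1, h2⟩ | ⟨d, hd, h1, h2⟩
  · exact .inl ⟨q, hq, h2, h1⟩
  · exact .inr ⟨d, hd, h2, h1⟩

theorem near_good_good {a b : ℕ} (ha : Good N a) (hb : Good N b) : Near N a b := by
  classical
  obtain ⟨s, f, hs, -, hf, hf1, hfa⟩ := ha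
  obtain ⟨t, g, ht, -, hg, hg1, hgb⟩ := hb
  by_cases hco : Nat.Coprime (MulAction.stabilizer G f).index (MulAction.stabilizer G g).index
  swap
  · obtain ⟨p, hp, hpf, hpg⟩ := Nat.Prime.not_coprime_iff_dvd.1 hco
    exact .inl ⟨p, hp, hpf.trans hfa, hpg.trans hgb⟩
  obtain ⟨q, hq, hqf⟩ := Nat.exists_prime_and_dvd hf1
  obtain ⟨p, hp, hpg⟩ := Nat.exists_prime_and_dvd hg1
  right
  by_cases hst : s = t
  · subst hst
    obtain ⟨d, hd, ⟨q, hq, hqm, hqd⟩, ⟨p, hp, hpn, hpd⟩⟩ :=
      exists_common_pair N hs hf hg hf1 hg1 hco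
    exact ⟨d, hd, ⟨q, hq, hqm.trans hfa, hqd⟩, ⟨p, hp, hpn.trans hgb, hpd⟩⟩
  obtain ⟨k, hk⟩ := exists_rExp N hs
  obtain ⟨l, hl⟩ := exists_rExp N ht
  obtain ⟨i, hi⟩ := hf.rpow
  obtain ⟨j, hj⟩ := hg.rpow
  obtain ⟨ψ, hψ⟩ := exists_above N (irrOf N (f * g))
  have hdk : detL N (irrOf N (f * g)) ^ k = f := by
    rw [detL_irrOf, mul_pow, (hk f).2.1 hf.rpow, (hk g).2.2.1 _
      (fun e => hst ((Nat.prime_dvd_prime_iff_eq hs ht).1 (hs.dvd_of_dvd_pow e))) hj, mul_one]
  have hdl : detL N (irrOf N (f * g)) ^ l = g := by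
    rw [detL_irrOf, mul_pow, (hl g).2.1 hg.rpow, (hl f).2.2.1 _
      (fun e => hst ((Nat.prime_dvd_prime_iff_eq ht hs).1 (ht.dvd_of_dvd_pow e)).symm) hi, one_mul]
  exact ⟨_, mem_of_pow N _ ψ hψ hdk hf.ne_one,
    ⟨q, hq, hqf.trans hfa, hqf.trans (stabilizer_index_dvd N ψ _ hψ hdk)⟩,
    ⟨p, hp, hpg.trans hgb, hpg.trans (stabilizer_index_dvd N ψ _ hψ hdl)⟩⟩

theorem near_good_nonlinear {a : ℕ} (ha : Good N a) {χ : IrrCharacter G} {θ : IrrCharacter N}
    (hθ : classInner (resFun N χ.1) θ.1 ≠ 0)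
    (hcop : Nat.Coprime (degree χ) (commutator N).index) (hd : degree θ ≠ 1)
    (hdet : ∀ s : ℕ, s.Prime → s ∣ (commutator N).index →
      ∀ k : ℕ, IsRPow s (detL N θ ^ k) → detL N θ ^ k = 1) : Near N a (degree χ) := by
  classical
  obtain ⟨s, f, hs, hsm, hf, hf1, hfa⟩ := ha
  have hsθ : ¬ s ∣ degree θ := fun e =>
    hs.one_lt.ne' (Nat.eq_one_of_dvd_coprimes hcop (e.trans (degree_dvd N χ θ hθ)) hsm)
  obtain ⟨k, hk⟩ := exists_rExp N hs
  obtain ⟨i, hi⟩ := hf.rpow
  obtain ⟨j, hj⟩ : ∃ j, (f ^ degree θ) ^ j = f :=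
    exists_pow_eq_self_of_coprime ((Nat.Coprime.pow_right i
      (hs.coprime_iff_not_dvd.2 hsθ).symm).coprime_dvd_right (orderOf_dvd_of_pow_eq_one hi))
  obtain ⟨ψ, hψ⟩ := exists_above N (twist N θ f)
  have hdet' : detL N (twist N θ f) ^ (k * j) = f := by
    rw [pow_mul, detL_twist, mul_pow, hdet s hs hsm k (hk _).1, mul_one, ← pow_mul f, mul_comm,
      pow_mul, (hk f).2.1 hf.rpow, hj]
  obtain ⟨q, hq, hqf⟩ := Nat.exists_prime_and_dvd hf1
  obtain ⟨p, hp, hpd⟩ := Nat.exists_prime_and_dvd hd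
  exact .inr ⟨_, mem_of_pow N _ ψ hψ hdet' hf.ne_one,
    ⟨q, hq, hqf.trans hfa, hqf.trans (stabilizer_index_dvd N ψ _ hψ hdet')⟩,
    ⟨p, hp, hpd.trans (degree_dvd N χ θ hθ),
      hpd.trans ((degree_twist N θ f).symm.dvd.trans (degree_dvd N ψ _ hψ))⟩⟩

theorem near_of_away [Group.IsSolvable N] (hNG : N ≤ commutator G) {a b : ℕ}
    (ha : a ∈ Cfsg.relCharDegrees N) (hb : b ∈ Cfsg.relCharDegrees N) (hA : Away N a)
    (hB : Away N b) : Near N a b := by
  classical
  obtain ⟨M, hMn, hMN, hMp, hMq⟩ := exists_minimal N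
  obtain ⟨χ, hx, rfl⟩ := id ha
  obtain ⟨χ', hx', rfl⟩ := id hb
  simp only [charDegree_eq_degree] at ha hb hA hB ⊢
  obtain ⟨θ, hθ⟩ := exists_constituent N χ
  obtain ⟨θ', hθ'⟩ := exists_constituent N χ'
  have hca := hA.coprime N ha
  have hcb := hB.coprime N hb
  rcases good_or N hNG hx hθ hca with ga | ⟨hd, hdet⟩
  · rcases good_or N hNG hx' hθ' hcb with gb | ⟨hd', hdet'⟩
    · exact near_good_good N ga gb
    · exact near_good_nonlinear N ga hθ' hcb hd' hdet'
  · rcases good_or N hNG hx' hθ' hcb with gb | ⟨hd', hdet'⟩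
    · exact (near_good_nonlinear N gb hθ hca hd hdet).symm N
    · obtain ⟨hne, h1⟩ := dvd_of_nonlinear N hθ hd ha hA hMN hMp
      obtain ⟨-, h2⟩ := dvd_of_nonlinear N hθ' hd' hb hB hMN hMp
      obtain ⟨q, hq, hqM, hqN⟩ := hMq hne
      exact .inl ⟨q, hq, h1 q hq hqM hqN, h2 q hq hqM hqN⟩

end Cfsg.Agent.RelDeg
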