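import Cfsg.Agent.Lib.RelDeg.DetRestrict
import Cfsg.Agent.Lib.Char.ThompsonDegree
import Cfsg.Agent.Lib.BlocksX.Normal
import Mathlib.GroupTheory.PGroup
import Cfsg.Prelude.Def_DegreeGraph

/-!
# Linear characters of a normal subgroup inside the derived subgroup
-/

set_option autoImplicit false
set_option linter.style.haveILetI false
set_option linter.unusedSectionVars false

namespace Cfsg.Agent.RelDeg

open Cfsg.Agent.Char

universe u

variable {G : Type u} [Group G] (N : Subgroup G) [N.Normal]

/-- The linear characters of `N`. -/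
def Lin : Type u := N →* ℂˣ

noncomputable instance : CommGroup (Lin N) := inferInstanceAs (CommGroup (N →* ℂˣ))

instance : FunLike (Lin N) N ℂˣ := inferInstanceAs (FunLike (N →* ℂˣ) N ℂˣ)

instance : MonoidHomClass (Lin N) N ℂˣ := inferInstanceAs (MonoidHomClass (N →* ℂˣ) N ℂˣ)

variable {N} in
/-- A linear character as a homomorphism to `ℂ`. -/
noncomputable def Lin.toC (f : Lin N) : N →* ℂ :=
  (Units.coeHom ℂ).comp (f : N →* ℂˣ)

variable {N} in
@[ext] theorem Lin.ext {a b : Lin N} (h : ∀ n, a n = b n) : a = b := DFunLike.ext _ _ h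

variable {N} in
theorem Lin.mul_apply (a b : Lin N) (n : N) : (a * b) n = a n * b n := rfl

variable {N} in
theorem Lin.one_apply (n : N) : (1 : Lin N) n = 1 := rfl

variable {N} in
theorem Lin.pow_apply (a : Lin N) (k : ℕ) (n : N) : (a ^ k) n = a n ^ k := rfl

variable {N} in
theorem Lin.prod_apply {ι : Type*} (s : Finset ι) (f : ι → Lin N) (n : N) :
    (∏ i ∈ s, f i) n = ∏ i ∈ s, f i n := MonoidHom.finsetProd_apply (M := N) (N := ℂˣ) f s n

/-- Conjugation of linear characters. -/
instance linAction : MulDistribMulAction G (Lin N) where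
  smul g f := MonoidHom.comp f (MulAut.conjNormal g⁻¹ : MulAut N).toMonoidHom
  one_smul f := Lin.ext fun n => by
    show f (MulAut.conjNormal (1 : G)⁻¹ n) = f n
    rw [inv_one, map_one, MulAut.one_apply]
  mul_smul g h f := Lin.ext fun n => by
    show f (MulAut.conjNormal (g * h)⁻¹ n) = f (MulAut.conjNormal h⁻¹ (MulAut.conjNormal g⁻¹ n))
    rw [mul_inv_rev, map_mul, MulAut.mul_apply]
  smul_mul _ _ _ := Lin.ext fun _ => rfl
  smul_one _ := Lin.ext fun _ => rfl

theorem lin_smul_apply (g : G) (f : Lin N) (n : N) :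
    (g • f) n = f (MulAut.conjNormal g⁻¹ n) := rfl

variable [Fintype G] [Fintype N]

instance : Finite (Lin N) :=
  Finite.of_injective (fun f : Lin N => linIrr (Lin.toC f)) fun a b hab => by
    refine Lin.ext fun g => Units.ext ?_
    exact congrFun (congrArg Subtype.val hab) g

/-- A linear character as an irreducible character. -/
noncomputable def irrOf (f : Lin N) : IrrCharacter N := linIrr (Lin.toC f)

/-- The determinant, as a linear character. -/
noncomputable def detL (θ : IrrCharacter N) : Lin N := (Clifford.detChar θ).toHomUnits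

theorem coe_detL (θ : IrrCharacter N) (n : N) :
    ((detL N θ n : ℂˣ) : ℂ) = Clifford.detChar θ n := rfl

theorem detL_irrOf (f : Lin N) : detL N (irrOf N f) = f :=
  Lin.ext fun n => Units.ext (by
    rw [coe_detL, irrOf, Char.detChar_linIrr]; rfl)

theorem degree_irrOf (f : Lin N) : degree (irrOf N f) = 1 := by
  have h2 := apply_one_eq_degree (irrOf N f)
  rw [irrOf, linIrr_apply, map_one] at h2
  exact_mod_cast h2.symm

theorem exists_irrOf_of_degree {θ : IrrCharacter N} (h : degree θ = 1) :
    ∃ f : Lin N, θ = irrOf N f := by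
  obtain ⟨f, hf⟩ := IsCharacter.exists_monoidHom (irr_isCharacter θ)
    (by rw [apply_one_eq_degree, h, Nat.cast_one])
  exact ⟨f.toHomUnits, Subtype.ext (funext fun n => (congrFun hf n).symm)⟩

theorem detL_conjChar (θ : IrrCharacter N) (g : G) :
    detL N (conjChar N θ g) = g⁻¹ • detL N θ :=
  Lin.ext fun n => Units.ext (by
    rw [coe_detL, detChar_conjChar, lin_smul_apply, inv_inv, coe_detL])

theorem inertia_le_stabilizer (θ : IrrCharacter N) (k : ℕ) :
    inertia N θ.1 ≤ MulAction.stabilizer G (detL N θ ^ k) := fun g hg => by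
  have h1 : g⁻¹ ∈ inertia N θ.1 := inv_mem hg
  refine MulAction.mem_stabilizer_iff.2 ((smul_pow' g (detL N θ) k).trans ?_)
  congr 1
  rw [← inv_inv g, ← detL_conjChar, show conjChar N θ g⁻¹ = θ from Subtype.ext (mem_inertia N |>.1 h1)]

/-- The product of the conjugate determinants is trivial when `N ≤ G'`. -/
theorem prod_detL_eq_one (hNG : N ≤ commutator G) (χ : IrrCharacter G) (θ : IrrCharacter N) {e : ℕ}
    (he : classInner (resFun N χ.1) θ.1 = e) (hθ : classInner (resFun N χ.1) θ.1 ≠ 0) :
    ∏ η ∈ orbitFinset N θ, detL N η ^ e = 1 := by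
  refine Lin.ext fun n => Units.ext ?_
  rw [Lin.prod_apply, Units.coe_prod, Lin.one_apply, Units.val_one]
  simp only [Lin.pow_apply, Units.val_pow_eq_pow_val, coe_detL]
  rw [← detChar_restrict N χ θ he hθ]
  have : (Clifford.detChar χ).toHomUnits (n : G) = 1 :=
    MonoidHom.mem_ker.1 (Abelianization.commutator_subset_ker _ (hNG n.2))
  exact congrArg Units.val this

theorem degree_dvd (χ : IrrCharacter G) (θ : IrrCharacter N)
    (hθ : classInner (resFun N χ.1) θ.1 ≠ 0) : degree θ ∣ degree χ := by
  obtain ⟨e, he⟩ := exists_mult N χ θ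
  exact ⟨e * (orbitFinset N θ).card, by rw [degree_eq_mul N χ θ he hθ]; ring⟩

theorem index_inertia_dvd (χ : IrrCharacter G) (θ : IrrCharacter N)
    (hθ : classInner (resFun N χ.1) θ.1 ≠ 0) : (inertia N θ.1).index ∣ degree χ := by
  obtain ⟨e, he⟩ := exists_mult N χ θ
  exact ⟨e * degree θ, by rw [degree_eq_mul N χ θ he hθ, index_inertia]; ring⟩

/-- A number above one dividing the degrees of the characters over `θ` with `det θ` a root of `f`. -/
noncomputable def keyNum (f : Lin N) : ℕ :=
  if (MulAction.stabilizer G f).index = 1 then orderOf f else (MulAction.stabilizer G f).index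

theorem one_lt_keyNum {f : Lin N} (hf : f ≠ 1) : 1 < keyNum N f := by
  rw [keyNum]
  split_ifs with h
  · have := orderOf_pos f
    have : orderOf f ≠ 1 := fun e => hf (orderOf_eq_one_iff.1 e)
    omega
  · have : (MulAction.stabilizer G f).index ≠ 0 := Subgroup.index_ne_zero_of_finite
    omega

theorem stabilizer_index_dvd (χ : IrrCharacter G) (θ : IrrCharacter N)
    (hθ : classInner (resFun N χ.1) θ.1 ≠ 0) {k : ℕ} {f : Lin N} (hf : detL N θ ^ k = f) :
    (MulAction.stabilizer G f).index ∣ degree χ :=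
  (Subgroup.index_dvd_of_le (hf ▸ inertia_le_stabilizer N θ k)).trans (index_inertia_dvd N χ θ hθ)

theorem keyNum_dvd (hNG : N ≤ commutator G) (χ : IrrCharacter G) (θ : IrrCharacter N)
    (hθ : classInner (resFun N χ.1) θ.1 ≠ 0) {k : ℕ} {f : Lin N} (hf : detL N θ ^ k = f) :
    keyNum N f ∣ degree χ := by
  rw [keyNum]
  split_ifs with h
  · obtain ⟨e, he⟩ := exists_mult N χ θ
    refine dvd_trans ?_ (⟨degree θ, by rw [degree_eq_mul N χ θ he hθ]; ring⟩ :
      e * (orbitFinset N θ).card ∣ degree χ)
    refine orderOf_dvd_of_pow_eq_one ?_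
    have h1 : ∏ η ∈ orbitFinset N θ, (detL N η ^ e) ^ k = 1 :=
      (Finset.prod_pow _ k _).trans
        ((congrArg (· ^ k) (prod_detL_eq_one N hNG χ θ he hθ)).trans (one_pow k))
    refine Eq.trans ?_ h1
    rw [Finset.prod_congr rfl (g := fun η => f ^ e) fun η hη => ?_, Finset.prod_const, ← pow_mul]
    obtain ⟨g, rfl⟩ := (mem_orbitFinset N).1 hη
    have hg : g⁻¹ ∈ MulAction.stabilizer G f := Subgroup.index_eq_one.1 h ▸ Subgroup.mem_top _
    rw [← pow_mul, mul_comm e k, pow_mul, detL_conjChar,
      ← smul_pow' g⁻¹ (detL N θ) k, hf, MulAction.mem_stabilizer_iff.1 hg]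
  · exact stabilizer_index_dvd N χ θ hθ hf

/-- Non-trivial on `N`. -/
theorem mem_relCharDegrees (χ : IrrCharacter G) (θ : IrrCharacter N)
    (hθ : classInner (resFun N χ.1) θ.1 ≠ 0) (h : detL N θ ≠ 1) :
    degree χ ∈ Cfsg.relCharDegrees N := by
  refine ⟨χ, ?_, charDegree_eq_degree χ⟩
  by_contra! hc
  have hres : resFun N χ.1 = χ.1 1 • (trivialChar N).1 := funext fun n => by
    rw [resFun_apply, hc n n.2, Pi.smul_apply, smul_eq_mul]
    exact (mul_one _).symm
  by_cases ht : θ = trivialChar N
  · refine h ?_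
    have : θ = irrOf N 1 := ht.trans (Subtype.ext (funext fun _ => rfl))
    rw [this, detL_irrOf]
  · refine hθ ?_
    rw [hres, classInner_smul_left, classInner_eq_zero_of_ne (fun e => ht e.symm), mul_zero]

theorem exists_above (θ : IrrCharacter N) :
    ∃ χ : IrrCharacter G, classInner (resFun N χ.1) θ.1 ≠ 0 :=
  BlocksX.exists_over N θ

/-- Twisting by a linear character. -/
noncomputable def twist (θ : IrrCharacter N) (f : Lin N) : IrrCharacter N :=
  ⟨⇑(Lin.toC f) * θ.1, IsIrrCharacter.mul_linear θ.2 _⟩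

theorem detL_twist (θ : IrrCharacter N) (f : Lin N) :
    detL N (twist N θ f) = f ^ degree θ * detL N θ :=
  Lin.ext fun n => Units.ext (by
    rw [coe_detL, Clifford.detChar_mul_linear θ (Lin.toC f) (twist N θ f)
      fun g => rfl]
    rfl)

theorem degree_twist (θ : IrrCharacter N) (f : Lin N) : degree (twist N θ f) = degree θ := by
  have h1 := apply_one_eq_degree (twist N θ f)
  have h2 : (twist N θ f).1 1 = θ.1 1 := by simp [twist]
  rw [h2, apply_one_eq_degree] at h1
  exact_mod_cast h1.symm

end Cfsg.Agent.RelDeg
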